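import Groth.Agent.Lib.NFlat7.Alg
import Groth.Agent.Lib.DepthExt20.Basic
import Mathlib.RingTheory.TensorProduct.Quotient

/-!
# The vanishing from the depths of the local rings
-/

set_option autoImplicit false
set_option linter.style.haveILetI false

universe u

open CategoryTheory

noncomputable section

namespace GrothLib.NFlat7

variable {A : Type u} [CommRing A] [IsNoetherianRing A] {𝔞 J : Ideal A} {k : ℕ}

theorem hVan_of_depth (h : ∀ p : PrimeSpectrum A, 𝔞 ≤ p.asIdeal → J ≤ p.asIdeal →
    (k : ℕ∞) ≤ LocCoh.depth (Localization.AtPrime p.asIdeal)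
      (Localization.AtPrime p.asIdeal ⧸ J.map (algebraMap A (Localization.AtPrime p.asIdeal)))) :
    HVan 𝔞 k (A ⧸ J) := by
  refine (Depth.le_idealDepth_iff_H 𝔞 k).1 (DepthExt20.le_idealDepth_of_forall_depth 𝔞 fun p hp => ?_)
  by_cases hJ : J ≤ p.asIdeal
  · refine (h p hp hJ).trans_eq (Depth.idealDepth_eq_of_equiv _ ?_)
    exact (Algebra.TensorProduct.quotIdealMapEquivTensorQuot (Localization.AtPrime p.asIdeal) J).toLinearEquiv ≪≫ₗ
      (LocalizedModule.equivTensorProduct p.asIdeal.primeCompl (A ⧸ J)).symm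
  · haveI : Subsingleton (LocalizedModule p.asIdeal.primeCompl (A ⧸ J)) := by
      obtain ⟨a, ha, hap⟩ := SetLike.not_le_iff_exists.1 hJ
      refine LocalizedModule.subsingleton_iff.2 fun m => ⟨a, hap, ?_⟩
      obtain ⟨b, rfl⟩ := Submodule.mkQ_surjective _ m
      exact (Submodule.Quotient.mk_eq_zero _).2 (Ideal.mul_mem_right b _ ha)
    rw [LocCoh.depth, LocCoh.idealDepth, if_pos (Subsingleton.elim _ _)]
    exact le_top

end GrothLib.NFlat7
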