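import Groth.Agent.Lib.Depth.Basic
import Groth.Agent.Lib.LC.Seq
import Groth.Agent.Lib.LC.Zero
import Groth.Agent.Lib.LC.Torsion
import Mathlib.RingTheory.AdicCompletion.Basic
import Mathlib.RingTheory.Filtration

/-!
# Local cohomology of the thickenings of a normally flat ring

If the pieces `J^n / J^(n+1)` are flat over `A / J` and the local cohomology of `A / J` vanishes in low
degrees, then so does that of every `A / J^n` and, for complete `A`, that of `A` in degrees `< 2`.
-/

set_option autoImplicit false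
set_option linter.style.haveILetI false

universe u

open CategoryTheory CategoryTheory.Limits

noncomputable section

namespace GrothLib.NFlat7

variable {A : Type u} [CommRing A] [IsNoetherianRing A] (𝔞 : Ideal A) (J : Ideal A) {k : ℕ}

/-- Local cohomology vanishes in degrees `< k`. -/
def HVan (k : ℕ) (M : Type u) [AddCommGroup M] [Module A M] : Prop :=
  ∀ i < k, Subsingleton (LocCoh.H 𝔞 i M)

variable {𝔞} {M N P : Type u} [AddCommGroup M] [Module A M] [AddCommGroup N] [Module A N]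
  [AddCommGroup P] [Module A P]

omit [IsNoetherianRing A] in
theorem HVan.middle (f : M →ₗ[A] N) (g : N →ₗ[A] P) (hf : Function.Injective f) (hg : Function.Surjective g)
    (hfg : LinearMap.range f = LinearMap.ker g) (hM : HVan 𝔞 k M) (hP : HVan 𝔞 k P) : HVan 𝔞 k N := by
  let S : ShortComplex (ModuleCat.{u} A) :=
    ShortComplex.mk (ModuleCat.ofHom f) (ModuleCat.ofHom g)
      (ModuleCat.hom_ext (LinearMap.ext fun m => (hfg ▸ LinearMap.mem_range_self f m : f m ∈ LinearMap.ker g)))
  have hS : S.ShortExact :=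
    { exact := (ShortComplex.moduleCat_exact_iff _).2 fun m hm => hfg.ge hm
      mono_f := (ModuleCat.mono_iff_injective _).2 hf
      epi_g := (ModuleCat.epi_iff_surjective _).2 hg }
  exact fun i hi => LC.subsingleton₂ 𝔞 hS i (hM i hi) (hP i hi)

omit [IsNoetherianRing A] in
theorem HVan.of_retract (s : M →ₗ[A] N) (r : N →ₗ[A] M) (h : r ∘ₗ s = LinearMap.id) (hN : HVan 𝔞 k N) :
    HVan 𝔞 k M := fun i hi => by
  haveI : Subsingleton ((localCohomology 𝔞 i).obj (ModuleCat.of A N)) := hN i hi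
  refine subsingleton_of_forall_eq 0 fun x => ?_
  let x' : (localCohomology 𝔞 i).obj (ModuleCat.of A M) := x
  have h1 : (localCohomology 𝔞 i).map (ModuleCat.ofHom r) ((localCohomology 𝔞 i).map (ModuleCat.ofHom s) x') = x' := by
    rw [← ModuleCat.comp_apply, ← Functor.map_comp, ← ModuleCat.ofHom_comp, h, ModuleCat.ofHom_id,
      CategoryTheory.Functor.map_id]
    rfl
  rw [Subsingleton.elim ((localCohomology 𝔞 i).map (ModuleCat.ofHom s) x') 0, map_zero] at h1
  exact h1.symm

omit [IsNoetherianRing A] in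
theorem HVan.of_subsingleton [Subsingleton M] : HVan 𝔞 k M := fun i _ => by
  refine subsingleton_of_forall_eq 0 fun x => ?_
  let x' : (localCohomology 𝔞 i).obj (ModuleCat.of A M) := x
  have hz : (𝟙 (ModuleCat.of A M)) = 0 := ModuleCat.hom_ext (LinearMap.ext fun m => Subsingleton.elim _ _)
  have h1 : (localCohomology 𝔞 i).map (𝟙 (ModuleCat.of A M)) x' = x' := by
    rw [CategoryTheory.Functor.map_id]; rfl
  rw [hz] at h1
  obtain ⟨n, e, he⟩ := LC.exists_toH 𝔞 x'
  rw [← he, LC.map_toH, Abelian.Ext.mk₀_zero, Abelian.Ext.comp_zero, map_zero] at h1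
  exact he.symm.trans h1.symm

theorem HVan.pi (h : HVan 𝔞 k M) : ∀ m : ℕ, HVan 𝔞 k (Fin m → M)
  | 0 => HVan.of_subsingleton
  | m + 1 => by
    refine HVan.middle (LinearMap.single A (fun _ : Fin (m + 1) => M) 0)
      (LinearMap.funLeft A M Fin.succ) (fun a b hab => by simpa using congrFun hab 0) ?_ ?_ h (HVan.pi h m)
    · exact fun v => ⟨Fin.cons 0 v, funext fun i => Fin.cons_succ (α := fun _ => M) 0 v i⟩
    · ext v
      refine ⟨?_, fun hv => ⟨v 0, ?_⟩⟩
      · rintro ⟨x, rfl⟩
        exact funext fun i => Pi.single_eq_of_ne (M := fun _ : Fin (m + 1) => M) (Fin.succ_ne_zero i) x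
      · funext i
        refine Fin.cases ?_ (fun i => ?_) i
        · show (Pi.single (0 : Fin (m + 1)) (v 0) : Fin (m + 1) → M) 0 = v 0
          exact Pi.single_eq_same _ _
        · exact (Pi.single_eq_of_ne (M := fun _ : Fin (m + 1) => M) (Fin.succ_ne_zero i) (v 0)).trans (congrFun hv i).symm

/-- Finite flat modules over `A / J` inherit the vanishing from `A / J`. -/
theorem HVan.of_flat (h : HVan 𝔞 k (A ⧸ J)) (G : Type u) [AddCommGroup G] [Module A G] [Module (A ⧸ J) G]
    [IsScalarTower A (A ⧸ J) G] [Module.Finite (A ⧸ J) G] [Module.Flat (A ⧸ J) G] : HVan 𝔞 k G := by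
  haveI : Module.FinitePresentation (A ⧸ J) G := Module.finitePresentation_of_finite _ _
  haveI : Module.Projective (A ⧸ J) G := Module.Flat.projective_of_finitePresentation
  obtain ⟨n, f, hf⟩ := Module.Finite.exists_fin' (A ⧸ J) G
  obtain ⟨s, hs⟩ := Module.projective_lifting_property f LinearMap.id hf
  exact HVan.of_retract (s.restrictScalars A) (f.restrictScalars A)
    (LinearMap.ext fun x => LinearMap.congr_fun hs x) (h.pi n)

/-- The hypothesis of normal flatness. -/
def GrFlat : Prop := ∀ n : ℕ, Module.Flat (A ⧸ J) (↥(J ^ n) ⧸ (J • (⊤ : Submodule A ↥(J ^ n))))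

variable {J}

omit [IsNoetherianRing A] in
theorem grFlat_of_isNormallyFlat_top (h : ∀ n : ℕ, Module.Flat (A ⧸ J)
    (↥(J ^ n • (⊤ : Submodule A A)) ⧸ (J • (⊤ : Submodule A ↥(J ^ n • (⊤ : Submodule A A)))))) : GrFlat J := by
  intro n
  have e : (J ^ n • (⊤ : Submodule A A)) = J ^ n := by rw [smul_eq_mul, Ideal.mul_top]
  have := h n
  rwa [e] at this

/-- Vanishing on every thickening. -/
theorem HVan.quot (hg : GrFlat J) (h : HVan 𝔞 k (A ⧸ J)) : ∀ n : ℕ, HVan 𝔞 k (A ⧸ J ^ n)
  | 0 => by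
    haveI : Subsingleton (A ⧸ J ^ 0) := by
      rw [pow_zero, Ideal.one_eq_top]; exact Ideal.Quotient.subsingleton_iff.2 rfl
    exact HVan.of_subsingleton
  | n + 1 => by
    let G := ↥(J ^ n) ⧸ (J • (⊤ : Submodule A ↥(J ^ n)))
    haveI : Module.Flat (A ⧸ J) G := hg n
    haveI : Module.Finite A ↥(J ^ n) := Module.Finite.iff_fg.2 (IsNoetherian.noetherian _)
    haveI : Module.Finite (A ⧸ J) G := Module.Finite.of_restrictScalars_finite A _ _
    let ι : G →ₗ[A] A ⧸ J ^ (n + 1) := Submodule.liftQ _ ((J ^ (n + 1)).mkQ ∘ₗ (J ^ n).subtype) (by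
      refine Submodule.smul_le.2 fun a ha m _ => ?_
      refine (Submodule.Quotient.mk_eq_zero _).2 ?_
      show a * (m : A) ∈ J ^ (n + 1)
      rw [pow_succ']
      exact Ideal.mul_mem_mul ha m.2)
    let q : A ⧸ J ^ (n + 1) →ₗ[A] A ⧸ J ^ n :=
      Submodule.factor (Ideal.pow_le_pow_right n.le_succ)
    refine HVan.middle ι q ?_ (Submodule.factor_surjective _) ?_ (HVan.of_flat J h G) (HVan.quot hg h n)
    · rw [← LinearMap.ker_eq_bot, eq_bot_iff]
      intro x hx
      obtain ⟨m, rfl⟩ := Submodule.mkQ_surjective _ x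
      have hm : (m : A) ∈ J ^ (n + 1) := (Submodule.Quotient.mk_eq_zero _).1 hx
      refine (Submodule.mem_bot A).2 ((Submodule.Quotient.mk_eq_zero _).2 ?_)
      have hmap : (J • (⊤ : Submodule A ↥(J ^ n))).map (J ^ n).subtype = J ^ (n + 1) := by
        rw [Submodule.map_smul'', Submodule.map_top, Submodule.range_subtype, smul_eq_mul, pow_succ']
      rw [← hmap] at hm
      obtain ⟨m', hm', he⟩ := hm
      rwa [← Subtype.ext he]
    · refine le_antisymm ?_ ?_
      · rintro _ ⟨x, rfl⟩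
        obtain ⟨m, rfl⟩ := Submodule.mkQ_surjective _ x
        exact (Submodule.Quotient.mk_eq_zero _).2 m.2
      · intro y hy
        obtain ⟨a, rfl⟩ := Submodule.mkQ_surjective _ y
        exact ⟨Submodule.Quotient.mk ⟨a, (Submodule.Quotient.mk_eq_zero _).1 hy⟩, rfl⟩

omit [IsNoetherianRing A] in
/-- Degree zero: the torsion vanishes. -/
theorem HVan.eq_zero (h : HVan 𝔞 k M) (hk : 0 < k) {m : M} {N : ℕ} (hm : ∀ a ∈ 𝔞 ^ N, a • m = 0) : m = 0 := by
  haveI : Subsingleton ((localCohomology 𝔞 0).obj (ModuleCat.of A M)) := h 0 hk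
  haveI := (LC.torsionEquiv 𝔞 (ModuleCat.of A M)).toEquiv.subsingleton
  exact congrArg Subtype.val (Subsingleton.elim (⟨m, N, hm⟩ : DRing.torsionSub 𝔞 (ModuleCat.of A M)) 0)

theorem exists_reg (h : HVan 𝔞 k (A ⧸ J)) (hk : 0 < k) : ∃ x ∈ 𝔞, IsSMulRegular (A ⧸ J) x := by
  by_contra hc
  push Not at hc
  have hsub : (𝔞 : Set A) ⊆ ⋃ p ∈ (associatedPrimes.finite A (A ⧸ J)).toFinset, (p : Set A) := by
    intro x hx
    have hne := hc x hx
    have : x ∈ ⋃ p ∈ associatedPrimes A (A ⧸ J), (p : Set A) := by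
      rw [biUnion_associatedPrimes_eq_compl_regular]
      exact hne
    obtain ⟨p, hp, hxp⟩ := Set.mem_iUnion₂.1 this
    exact Set.mem_iUnion₂.2 ⟨p, (Set.Finite.mem_toFinset _).2 hp, hxp⟩
  obtain ⟨p, hp, hle⟩ := (Ideal.subset_union_prime ⊥ ⊥ fun p hp _ _ =>
    ((Set.Finite.mem_toFinset _).1 hp).isPrime).1 hsub
  obtain ⟨hpP, x, hx⟩ := (isAssociatedPrime_iff_exists_injective_linearMap p (A ⧸ J)).1 ((Set.Finite.mem_toFinset _).1 hp)
  have h1 : x (Submodule.Quotient.mk 1) = 0 := h.eq_zero hk (N := 1) fun a ha => by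
    rw [pow_one] at ha
    rw [← map_smul, ← Submodule.Quotient.mk_smul, smul_eq_mul, mul_one,
      (Submodule.Quotient.mk_eq_zero _).2 (hle ha), map_zero]
  exact hpP.ne_top ((Ideal.eq_top_iff_one _).2 ((Submodule.Quotient.mk_eq_zero _).1 (hx (h1.trans (map_zero x).symm))))

omit [IsNoetherianRing A] in
theorem reg_of_flat {x : A} (hx : IsSMulRegular (A ⧸ J) x) (G : Type u) [AddCommGroup G] [Module A G]
    [Module (A ⧸ J) G] [IsScalarTower A (A ⧸ J) G] [Module.Flat (A ⧸ J) G] : IsSMulRegular G x := by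
  have hx' : IsSMulRegular (A ⧸ J) (Ideal.Quotient.mk J x) := fun a b hab => hx (by
    show x • a = x • b
    rw [Algebra.smul_def, Algebra.smul_def]
    exact hab)
  intro a b hab
  have hG : IsSMulRegular G (Ideal.Quotient.mk J x) :=
    ((TensorProduct.lid (A ⧸ J) G).isSMulRegular_congr _).1 (hx'.rTensor G)
  refine hG ?_
  show Ideal.Quotient.mk J x • a = Ideal.Quotient.mk J x • b
  rw [← Ideal.Quotient.algebraMap_eq, algebraMap_smul, algebraMap_smul]
  exact hab

omit [IsNoetherianRing A] in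
theorem reg_quot (hg : GrFlat J) {x : A} (hx : IsSMulRegular (A ⧸ J) x) : ∀ n : ℕ, IsSMulRegular (A ⧸ J ^ n) x
  | 0 => by
    haveI : Subsingleton (A ⧸ J ^ 0) := by
      rw [pow_zero, Ideal.one_eq_top]; exact Ideal.Quotient.subsingleton_iff.2 rfl
    exact fun a b _ => Subsingleton.elim a b
  | n + 1 => by
    haveI := hg n
    intro a b hab
    obtain ⟨a, rfl⟩ := Submodule.mkQ_surjective _ a
    obtain ⟨b, rfl⟩ := Submodule.mkQ_surjective _ b
    simp only [Submodule.mkQ_apply, ← Submodule.Quotient.mk_smul] at hab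
    have hab' : x * (a - b) ∈ J ^ (n + 1) := by
      rw [mul_sub]; exact (Submodule.Quotient.eq _).1 hab
    have h1 : a - b ∈ J ^ n := by
      rw [← Submodule.Quotient.mk_eq_zero (p := J ^ n)]
      refine reg_quot hg hx n ((?_ : x • (Submodule.Quotient.mk (a - b) : A ⧸ J ^ n) = 0).trans (smul_zero x).symm)
      rw [ ← Submodule.Quotient.mk_smul, Submodule.Quotient.mk_eq_zero]
      exact Ideal.pow_le_pow_right n.le_succ hab'
    refine (Submodule.Quotient.eq _).2 ?_
    have hmap : (J • (⊤ : Submodule A ↥(J ^ n))).map (J ^ n).subtype = J ^ (n + 1) := by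
      rw [Submodule.map_smul'', Submodule.map_top, Submodule.range_subtype, smul_eq_mul, pow_succ']
    have h2 : (Submodule.Quotient.mk ⟨a - b, h1⟩ : ↥(J ^ n) ⧸ (J • (⊤ : Submodule A ↥(J ^ n)))) = 0 := by
      refine reg_of_flat hx _ ((?_ : x • (Submodule.Quotient.mk ⟨a - b, h1⟩ : ↥(J ^ n) ⧸ (J • (⊤ : Submodule A ↥(J ^ n)))) = 0).trans (smul_zero x).symm)
      rw [ ← Submodule.Quotient.mk_smul, Submodule.Quotient.mk_eq_zero]
      have hm := hab'
      rw [← hmap] at hm
      obtain ⟨m', hm', he⟩ := hm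
      rwa [show x • (⟨a - b, h1⟩ : ↥(J ^ n)) = m' from Subtype.ext he.symm]
    rw [← hmap]
    exact ⟨⟨a - b, h1⟩, (Submodule.Quotient.mk_eq_zero _).1 h2, rfl⟩

/-- For complete `A`, the vanishing in degrees `< 2` passes to `A`. -/
theorem HVan.of_complete (hg : GrFlat J) [IsAdicComplete J A] (h : HVan 𝔞 2 (A ⧸ J)) : HVan 𝔞 2 A := by
  obtain ⟨x, hx𝔞, hx⟩ := exists_reg h two_pos
  have hJ : J ≤ (⊥ : Ideal A).jacobson := IsAdicComplete.le_jacobson_bot J
  have hsep : ∀ a : A, (∀ n, a ∈ Ideal.span {x} ⊔ J ^ n) → a ∈ Ideal.span {x} := fun a ha => by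
    have hb : (⨅ n : ℕ, J ^ n • (⊤ : Submodule A (A ⧸ Ideal.span {x}))) = ⊥ :=
      Ideal.iInf_pow_smul_eq_bot_of_le_jacobson J hJ
    refine (Submodule.Quotient.mk_eq_zero (Ideal.span {x})).1 ?_
    rw [← Submodule.mem_bot (R := A), ← hb, Submodule.mem_iInf]
    intro n
    obtain ⟨u, hu, w, hw, rfl⟩ := Submodule.mem_sup.1 (ha n)
    rw [Submodule.Quotient.mk_add, (Submodule.Quotient.mk_eq_zero _).2 hu, zero_add,
      show (Submodule.Quotient.mk w : A ⧸ Ideal.span {x}) = w • Submodule.Quotient.mk 1 by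
        rw [← Submodule.Quotient.mk_smul, smul_eq_mul, mul_one]]
    exact Submodule.smul_mem_smul hw Submodule.mem_top
  have hxA : IsSMulRegular A x := fun a b hab => by
    refine sub_eq_zero.1 (IsHausdorff.haus (I := J) inferInstance (a - b) fun n => ?_)
    rw [smul_eq_mul, Ideal.mul_top, SModEq.zero, ← Submodule.Quotient.mk_eq_zero]
    refine reg_quot hg hx n ((?_ : x • (Submodule.Quotient.mk (a - b) : A ⧸ J ^ n) = 0).trans (smul_zero x).symm)
    rw [ ← Submodule.Quotient.mk_smul, smul_sub, show x • a = x • b from hab, sub_self, Submodule.Quotient.mk_zero]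
  -- the quotient by `x` has no torsion
  have hq0 : ∀ a : A, ∀ N : ℕ, (∀ c ∈ 𝔞 ^ N, c * a ∈ Ideal.span {x}) → a ∈ Ideal.span {x} := by
    intro a N ha
    refine hsep a fun n => ?_
    let I' := Ideal.span {x} ⊔ J ^ n
    let f : A ⧸ J ^ n →ₗ[A] A ⧸ J ^ n := x • LinearMap.id
    let g : A ⧸ J ^ n →ₗ[A] A ⧸ I' := Submodule.factor le_sup_right
    have hfi : Function.Injective f := reg_quot hg hx n
    have hgs : Function.Surjective g := Submodule.factor_surjective _
    have hfg : LinearMap.range f = LinearMap.ker g := by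
      refine le_antisymm ?_ fun y hy => ?_
      · rintro _ ⟨y, rfl⟩
        obtain ⟨c, rfl⟩ := Submodule.mkQ_surjective _ y
        refine (Submodule.Quotient.mk_eq_zero _).2 ?_
        exact Ideal.mem_sup_left (Ideal.mem_span_singleton'.2 ⟨c, mul_comm _ _⟩)
      · obtain ⟨c, rfl⟩ := Submodule.mkQ_surjective _ y
        obtain ⟨u, hu, w, hw, huw⟩ := Submodule.mem_sup.1 ((Submodule.Quotient.mk_eq_zero _).1 hy)
        obtain ⟨d, rfl⟩ := Ideal.mem_span_singleton'.1 hu
        refine ⟨Submodule.Quotient.mk d, ?_⟩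
        show x • (Submodule.Quotient.mk d : A ⧸ J ^ n) = Submodule.Quotient.mk c
        simp only [LinearMap.id_coe, id_eq] at huw
        rw [← Submodule.Quotient.mk_smul, Submodule.Quotient.eq, smul_eq_mul, mul_comm, ← huw]
        simpa using hw
    let S : ShortComplex (ModuleCat.{u} A) :=
      ShortComplex.mk (ModuleCat.ofHom f) (ModuleCat.ofHom g)
        (ModuleCat.hom_ext (LinearMap.ext fun m => (hfg ▸ LinearMap.mem_range_self f m : f m ∈ LinearMap.ker g)))
    have hS : S.ShortExact :=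
      { exact := (ShortComplex.moduleCat_exact_iff _).2 fun m hm => hfg.ge hm
        mono_f := (ModuleCat.mono_iff_injective _).2 hfi
        epi_g := (ModuleCat.epi_iff_surjective _).2 hgs }
    have hn := HVan.quot hg h n
    have h3 : HVan 𝔞 1 (A ⧸ I') := fun i hi => by
      obtain rfl : i = 0 := by omega
      exact LC.subsingleton₃ 𝔞 hS 0 (hn 0 two_pos) (hn 1 one_lt_two)
    refine (Submodule.Quotient.mk_eq_zero I').1 (h3.eq_zero one_pos (N := N) fun c hc => ?_)
    rw [← Submodule.Quotient.mk_smul, Submodule.Quotient.mk_eq_zero]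
    exact Ideal.mem_sup_left (ha c hc)
  intro i hi
  interval_cases i
  · refine subsingleton_of_forall_eq 0 fun y => ?_
    obtain ⟨⟨m, N, hm⟩, hy⟩ := (LC.torsionEquiv 𝔞 (ModuleCat.of A A)).surjective y
    have : m = 0 := by
      have h1 : x ^ N • m = 0 := hm _ (Ideal.pow_mem_pow hx𝔞 N)
      exact (hxA.pow N) (h1.trans (smul_zero _).symm)
    subst this
    exact hy.symm.trans (map_zero (LC.torsionEquiv 𝔞 (ModuleCat.of A A)))
  · let f : A →ₗ[A] A := x • LinearMap.id
    let g : A →ₗ[A] A ⧸ Ideal.span {x} := Submodule.mkQ _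
    have hfg : LinearMap.range f = LinearMap.ker g := by
      rw [Submodule.ker_mkQ]
      refine le_antisymm ?_ fun y hy => ?_
      · rintro _ ⟨c, rfl⟩
        exact Ideal.mem_span_singleton'.2 ⟨c, mul_comm _ _⟩
      · obtain ⟨d, rfl⟩ := Ideal.mem_span_singleton'.1 hy
        exact ⟨d, mul_comm _ _⟩
    let S : ShortComplex (ModuleCat.{u} A) :=
      ShortComplex.mk (ModuleCat.ofHom f) (ModuleCat.ofHom g)
        (ModuleCat.hom_ext (LinearMap.ext fun m => (hfg ▸ LinearMap.mem_range_self f m : f m ∈ LinearMap.ker g)))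
    have hS : S.ShortExact :=
      { exact := (ShortComplex.moduleCat_exact_iff _).2 fun m hm => hfg.ge hm
        mono_f := (ModuleCat.mono_iff_injective _).2 hxA
        epi_g := (ModuleCat.epi_iff_surjective _).2 (Submodule.mkQ_surjective _) }
    have h0 : ∀ w : (localCohomology 𝔞 0).obj S.X₃, w = 0 := fun w => by
      obtain ⟨⟨m, N, hm⟩, rfl⟩ := (LC.torsionEquiv 𝔞 S.X₃).surjective w
      obtain ⟨a, rfl⟩ := Submodule.mkQ_surjective _ m
      have ha : a ∈ Ideal.span {x} := hq0 a N fun c hc => by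
        have := hm c hc
        rw [Submodule.mkQ_apply, ← Submodule.Quotient.mk_smul, Submodule.Quotient.mk_eq_zero] at this
        exact this
      refine (congrArg (LC.torsionEquiv 𝔞 S.X₃) (Subtype.ext ?_)).trans (map_zero (LC.torsionEquiv 𝔞 S.X₃))
      exact (Submodule.Quotient.mk_eq_zero _).2 ha
    refine subsingleton_of_forall_eq 0 fun y => ?_
    let y' : (localCohomology 𝔞 1).obj S.X₁ := y
    have hker : ∀ z : (localCohomology 𝔞 1).obj S.X₁, (localCohomology 𝔞 1).map S.f z = 0 → z = 0 := fun z hz => by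
      obtain ⟨w, rfl⟩ := LC.exists_of_map_f_eq_zero 𝔞 hS 0 hz
      rw [h0 w, map_zero]
    have hmap : ∀ z : (localCohomology 𝔞 1).obj S.X₁, (localCohomology 𝔞 1).map S.f z = x • z := fun z => by
      obtain ⟨n, e, rfl⟩ := LC.exists_toH 𝔞 z
      rw [LC.map_toH, ← map_smul]
      congr 1
      rw [show S.f = x • 𝟙 (ModuleCat.of A A) from rfl, Abelian.Ext.mk₀_smul, Abelian.Ext.comp_smul,
        Abelian.Ext.comp_mk₀_id]
    have hiter : ∀ (n : ℕ) (z : (localCohomology 𝔞 1).obj S.X₁), x ^ n • z = 0 → z = 0 := by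
      intro n
      induction n with
      | zero => intro z hz; rwa [pow_zero, one_smul] at hz
      | succ n ih =>
        intro z hz
        refine ih z (hker _ ?_)
        rw [hmap, smul_smul, ← pow_succ', hz]
    obtain ⟨N, hN⟩ := LC.isPowerTorsion (I := 𝔞) 1 S.X₁ y'
    exact hiter N y' (hN _ (Ideal.pow_mem_pow hx𝔞 N))

end GrothLib.NFlat7
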