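import Groth.Agent.Lib.PunctSec7.Formal
import Groth.Agent.Lib.PunctSec7.Main
import Groth.Agent.Lib.NFlat7.Alg

/-!
# Sections on a punctured spectrum under normal flatness
-/

set_option autoImplicit false
set_option linter.style.haveILetI false

universe u

open CategoryTheory CategoryTheory.Limits AlgebraicGeometry Opposite Formal2 TopologicalSpace

noncomputable section

namespace GrothLib.NFlat7

open GrothLib.PunctSec7
open GrothLib.Cohom (hhMap)
open GrothLib.FormalFun (Bij)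
open GrothLib.FormalSys

variable {A : Type u} [CommRing A] [IsNoetherianRing A] (𝔞 : Ideal A) {J : Ideal A}

theorem j_bijective {M : Type u} [AddCommGroup M] [Module A M] (h : HVan 𝔞 2 M) :
    Function.Bijective (Formal2Sec7.j 𝔞 M) := by
  refine ⟨(injective_iff_map_eq_zero _).2 fun m hm => ?_, fun s => ?_⟩
  · obtain ⟨N, hN⟩ := (Punctured.toOpen_eq_zero_iff 𝔞 (ModuleCat.of (CommRingCat.of A) M) m).1 hm
    exact h.eq_zero two_pos hN
  · haveI := h 1 one_lt_two
    obtain ⟨m, hm⟩ := Formal2Sec7.exists_pow_j 𝔞 (1 : A) (fun x => Subsingleton.elim _ _) s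
    exact ⟨m, hm.trans (one_smul A s)⟩

variable {𝔞}

/-- Sections of `O` over the punctured spectrum are the compatible families on the thickenings. -/
theorem bijective_sections [IsAdicComplete J A] (hg : GrFlat J) (h : HVan 𝔞 2 (A ⧸ J)) :
    (∀ s : Formal2Sec7.Sc 𝔞 A, (∀ n, Formal2Sec7.sm 𝔞 (quotPowπ A J A n) s = 0) → s = 0) ∧
      ∀ y : ∀ n, Formal2Sec7.Sc 𝔞 (quotPow A J A n),
        (∀ n, Formal2Sec7.sm 𝔞 (quotPowTrans A J A n) (y (n + 1)) = y n) →
          ∃ x : Formal2Sec7.Sc 𝔞 A, ∀ n, Formal2Sec7.sm 𝔞 (quotPowπ A J A n) x = y n := by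
  have hA := HVan.of_complete hg h
  have hq : ∀ n, HVan 𝔞 2 (quotPow A J A n) := fun n => by
    show HVan 𝔞 2 (A ⧸ (J ^ (n + 1) • (⊤ : Submodule A A)))
    rw [smul_eq_mul, Ideal.mul_top]
    exact HVan.quot hg h (n + 1)
  refine ⟨fun s hs => ?_, fun y hy => ?_⟩
  · obtain ⟨a, rfl⟩ := (j_bijective 𝔞 hA).2 s
    have ha : a = 0 := IsHausdorff.haus (I := J) inferInstance a fun n => by
      cases n with
      | zero => rw [pow_zero, Ideal.one_eq_top, smul_eq_mul, Ideal.top_mul]; exact SModEq.top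
      | succ n =>
        rw [SModEq.zero, ← Submodule.Quotient.mk_eq_zero]
        refine (j_bijective 𝔞 (hq n)).1 ?_
        have := hs n
        rw [Formal2Sec7.sm_j] at this
        exact this.trans (map_zero _).symm
    rw [ha, map_zero]
  · choose b hb using fun n => (j_bijective 𝔞 (hq n)).2 (y n)
    choose a ha using fun n => Submodule.mkQ_surjective _ (b n)
    have hc : ∀ n, a n - a (n + 1) ∈ J ^ (n + 1) • (⊤ : Submodule A A) := fun n => by
      refine (Submodule.Quotient.eq _).1 ((j_bijective 𝔞 (hq n)).1 ?_)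
      show Formal2Sec7.j 𝔞 _ (Submodule.mkQ _ (a n)) = Formal2Sec7.j 𝔞 _ (quotPowπ A J A n (a (n + 1)))
      rw [ha n, hb n, ← hy n, ← hb (n + 1), ← ha (n + 1), Formal2Sec7.sm_j]
      rfl
    let c : ℕ → A := fun n => match n with
      | 0 => 0
      | n + 1 => a n
    have hstep : ∀ n, c n ≡ c (n + 1) [SMOD (J ^ n • (⊤ : Submodule A A))] := fun n => by
      cases n with
      | zero => rw [pow_zero, Ideal.one_eq_top, smul_eq_mul, Ideal.top_mul]; exact SModEq.top
      | succ n => rw [SModEq.sub_mem]; exact hc n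
    have hcauchy : ∀ {m n}, m ≤ n → c m ≡ c n [SMOD (J ^ m • (⊤ : Submodule A A))] := fun {m n} hmn => by
      induction hmn with
      | refl => rfl
      | @step n hmn ih => exact ih.trans ((hstep n).mono (Submodule.smul_mono_left (Ideal.pow_le_pow_right hmn)))
    obtain ⟨L, hL⟩ := IsPrecomplete.prec (I := J) (M := A) inferInstance hcauchy
    refine ⟨Formal2Sec7.j 𝔞 A L, fun n => ?_⟩
    rw [Formal2Sec7.sm_j, ← hb n, ← ha n]
    refine congrArg (Formal2Sec7.j 𝔞 _) ((Submodule.Quotient.eq _).2 ?_)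
    have := (hL (n + 1)).symm
    rw [SModEq.sub_mem] at this
    exact this

variable (J) in
/-- The ideal sheaf of `J` on `Spec A`. -/
abbrev KI : (Spec (CommRingCat.of A)).IdealSheafData :=
  (Spec.map (CommRingCat.ofHom (Ideal.Quotient.mk J))).ker

variable (J)

omit [IsNoetherianRing A] in
theorem mem_KI_pow (n : ℕ) (a : A) :
    (Scheme.ΓSpecIso (CommRingCat.of A)).inv a ∈ ((KI J) ^ n).ideal ⟨⊤, isAffineOpen_top _⟩ ↔ a ∈ J ^ n := by
  rw [KI, ← FSchSys.ker_spec_quot_pow, FSchSys.ker_spec_quot_top]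
  have hb := ConcreteCategory.bijective_of_isIso (Scheme.ΓSpecIso (CommRingCat.of A)).inv
  refine ⟨fun h => ?_, fun h => Ideal.mem_map_of_mem _ h⟩
  obtain ⟨b, hb', hbe⟩ := (Ideal.mem_map_iff_of_surjective _ hb.2).1 h
  exact hb.1 hbe ▸ hb'

/-- The unit of the quotient. -/
def oneI (n : ℕ) : Γ(ClSub.quotMod ((KI J) ^ (n + 1)), ⊤) :=
  (ClSub.toSubscheme ((KI J) ^ (n + 1))).app ⊤ (1 : Γ(Spec (CommRingCat.of A), ⊤))

theorem gen_oneI_apply (n : ℕ) (a : A) :
    (gen (ClSub.quotMod ((KI J) ^ (n + 1))) (oneI J n)).hom a =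
      ((KI J) ^ (n + 1)).subschemeι.app ⊤ ((Scheme.ΓSpecIso (CommRingCat.of A)).inv a) := by
  unfold oneI
  rw [← gen_comp]
  refine Eq.trans ?_ (congrArg ((ClSub.toSubscheme ((KI J) ^ (n + 1))).app ⊤) (gen_one_apply a))
  rfl

theorem exists_θI (n : ℕ) : ∃ θ : tilde (ModuleCat.of (CommRingCat.of A) (quotPow A (J) A n)) ⟶
      ClSub.quotMod ((KI J) ^ (n + 1)),
    (∀ U, Function.Bijective (θ.app U)) ∧
      tilde.map (ModuleCat.ofHom (R := CommRingCat.of A) (quotPowπ A (J) A n)) ≫ θ =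
        θ₀ ≫ ClSub.toSubscheme ((KI J) ^ (n + 1)) := by
  let K := (KI J) ^ (n + 1)
  haveI := Cohom.isQuasicoherent_structureModule K.subscheme
  haveI : (ClSub.quotMod K).IsQuasicoherent := QCoh.isQuasicoherent_pushforward _ _
  have hzero : ∀ a : A, (gen _ (oneI J n)).hom a = 0 ↔ a ∈ J ^ (n + 1) := fun a => by
    rw [← mem_KI_pow J (n + 1) a, ← K.ker_subschemeι_app ⟨⊤, isAffineOpen_top _⟩, RingHom.mem_ker,
      gen_oneI_apply J n a]
    exact Iff.rfl
  have hsurj : Function.Surjective (gen _ (oneI J n)).hom := fun e => by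
    obtain ⟨b, hb⟩ := K.subschemeι.app_surjective ⊤ (isAffineOpen_top _) (show Γ(K.subscheme, _) from e)
    refine ⟨(Scheme.ΓSpecIso (CommRingCat.of A)).hom b, ?_⟩
    rw [gen_oneI_apply J n, ← ConcreteCategory.comp_apply (Scheme.ΓSpecIso (CommRingCat.of A)).hom, Iso.hom_inv_id]
    exact hb
  have hq : ∀ {a : A}, a ∈ J ^ (n + 1) • (⊤ : Submodule A A) ↔ a ∈ J ^ (n + 1) :=
    fun {a} => by rw [smul_eq_mul, ← Ideal.one_eq_top, mul_one]
  obtain ⟨g, hg, hπg⟩ := exists_factor (ModuleCat.ofHom (R := CommRingCat.of A) (quotPowπ A (J) A n))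
    (Submodule.mkQ_surjective _) (gen (ClSub.quotMod ((KI J) ^ (n + 1))) (oneI J n)) hsurj
    (fun a => (hzero a).trans (hq.symm.trans (Submodule.Quotient.mk_eq_zero _).symm))
  refine ⟨ofΓ g, fun U => ofΓ_app_bijective _ hg U, ?_⟩
  refine ofΓ_comp _ _ _ _ ?_
  rw [gen_comp]
  exact hπg

variable {J}

set_option quotPrecheck false
local notation "UU" => LocCoh.puncturedOpen A 𝔞

variable (𝔞)

/-- Functions on the punctured spectrum are the limit of functions on its thickenings. -/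
theorem secBij [IsAdicComplete J A] (hg : GrFlat J) (h : HVan 𝔞 2 (A ⧸ J)) :
    LefEt7.SecBij (V := (UU : Scheme.{u})) (fun n => ((KI J).comap (UU).ι) ^ (n + 1))
      (fun n => Lef.pow_succ_le ((KI J).comap (UU).ι) n) := by
  obtain ⟨inj, surj⟩ := bijective_sections hg h
  choose θ hθ hθπ using exists_θI J
  let K : ℕ → (Spec (CommRingCat.of A)).IdealSheafData := fun n => (KI J) ^ (n + 1)
  let JJ : ℕ → (UU : Scheme.{u}).IdealSheafData := fun n => ((KI J).comap (UU).ι) ^ (n + 1)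
  -- the open immersions of the thickenings
  have hk : ∀ n, ∃ k : (JJ n).subscheme ⟶ (K n).subscheme, IsOpenImmersion k ∧
      k ≫ (K n).subschemeι = (JJ n).subschemeι ≫ (UU).ι ∧ (↑((K n).subschemeι ⁻¹ᵁ UU) : Set (K n).subscheme) ⊆ Set.range k := fun n => by
    have hJ : JJ n = (K n).comap (UU).ι := (GrothLib.FSchSys.comap_pow _ _ _).symm
    rw [hJ]
    refine ⟨((K n).comapIso (UU).ι).hom ≫ Limits.pullback.snd (UU).ι (K n).subschemeι, ?_, ?_, fun z hz => ?_⟩
    · haveI : IsOpenImmersion (Limits.pullback.snd (UU).ι (K n).subschemeι) := inferInstance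
      infer_instance
    · rw [Category.assoc, ← Limits.pullback.condition, ← Category.assoc]
      congr 1
      exact (K n).comapIso_hom_fst (UU).ι
    · obtain ⟨w, -, hw⟩ := Scheme.Pullback.exists_preimage_pullback (f := (UU).ι) (g := (K n).subschemeι) ⟨_, hz⟩ z rfl
      obtain ⟨w', rfl⟩ := ((K n).comapIso (UU).ι).hom.surjective w
      exact ⟨w', hw⟩
  choose k hk hkι hkr using hk
  have hke : ∀ n, (⊤ : (JJ n).subscheme.Opens) ≤ k n ⁻¹ᵁ ((K n).subschemeι ⁻¹ᵁ UU) := fun n z _ => by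
    show ((k n) ≫ (K n).subschemeι) z ∈ UU
    rw [hkι]
    exact ((JJ n).subschemeι z).2
  have hιe : (⊤ : (UU : Scheme.{u}).Opens) ≤ (UU).ι ⁻¹ᵁ UU := fun z _ => z.2
  have hkb : ∀ n, Function.Bijective ((k n).appLE _ ⊤ (hke n)) := fun n =>
    haveI := hk n
    appLE_bijective (k n) _ (hkr n) (hke n)
  have hιb : Function.Bijective ((UU).ι.appLE UU ⊤ hιe) :=
    appLE_bijective (UU).ι _ (Scheme.Opens.opensRange_ι _).ge hιe
  -- the comparisons
  let E : ∀ n, Formal2Sec7.Sc 𝔞 (quotPow A (J) A n) → Γ((JJ n).subscheme, ⊤) := fun n w =>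
    (k n).appLE _ ⊤ (hke n) ((θ n).app UU w)
  let F : Formal2Sec7.Sc 𝔞 A → Γ((UU : Scheme.{u}), ⊤) := fun s => (UU).ι.appLE UU ⊤ hιe (θ₀.app UU s)
  have hE : ∀ n, Function.Bijective (E n) := fun n => (hkb n).comp (hθ n UU)
  have hF : Function.Bijective F := hιb.comp (θ₀_bijective UU)
  have hEF : ∀ n s, E n (Formal2Sec7.sm 𝔞 (quotPowπ A (J) A n) s) = (JJ n).subschemeι.appTop (F s) := by
    intro n s
    have h1 : (θ n).app UU (Formal2Sec7.sm 𝔞 (quotPowπ A (J) A n) s) =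
        (K n).subschemeι.app UU (θ₀.app UU s) :=
      congrArg (fun φ => φ.app UU s) (hθπ n)
    show (k n).appLE _ ⊤ (hke n) _ = (JJ n).subschemeι.appTop ((UU).ι.appLE UU ⊤ hιe (θ₀.app UU s))
    rw [h1, Scheme.Hom.app_eq_appLE, Scheme.Hom.appTop, Scheme.Hom.app_eq_appLE]
    refine (appLE_comp_apply _ _ _ _ _ _ _ _).trans ?_
    refine Eq.trans ?_ (appLE_comp_apply _ _ _ _ _ _ _ _).symm
    exact appLE_congr_apply (hkι n) _ _ _ _ _
  have hEtr : ∀ n w, (Scheme.IdealSheafData.inclusion (Lef.pow_succ_le ((KI J).comap (UU).ι) n)).appTop (E (n + 1) w) =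
      E n (Formal2Sec7.sm 𝔞 (quotPowTrans A (J) A n) w) := by
    intro n w
    have hnat : tilde.map (ModuleCat.ofHom (R := CommRingCat.of A) (quotPowTrans A (J) A n)) ≫ θ n =
        θ (n + 1) ≫ Lef.quotMap (Lef.pow_succ_le (KI J) n) := by
      haveI : Epi (ModuleCat.ofHom (R := CommRingCat.of A) (quotPowπ A (J) A (n + 1))) :=
        (ModuleCat.epi_iff_surjective _).2 (Submodule.mkQ_surjective _)
      haveI : Epi (tilde.map (ModuleCat.ofHom (R := CommRingCat.of A) (quotPowπ A (J) A (n + 1)))) :=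
        inferInstanceAs (Epi ((tilde.functor (CommRingCat.of A)).map
          (ModuleCat.ofHom (R := CommRingCat.of A) (quotPowπ A (J) A (n + 1)))))
      refine (cancel_epi (tilde.map (ModuleCat.ofHom (R := CommRingCat.of A) (quotPowπ A (J) A (n + 1))))).1 ?_
      rw [← Category.assoc, ← Category.assoc, hθπ (n + 1), ← tilde.map_comp, Category.assoc,
        LefEt7.toSubscheme_quotMap, ← hθπ n]
      exact congrArg (fun φ => tilde.map φ ≫ θ n) (ModuleCat.hom_ext (LinearMap.ext fun a => rfl))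
    let inc := Scheme.IdealSheafData.inclusion (Lef.pow_succ_le (KI J) n)
    have hincι : inc ≫ (K (n + 1)).subschemeι = (K n).subschemeι := Scheme.IdealSheafData.inclusion_subschemeι _
    have he : (K n).subschemeι ⁻¹ᵁ UU ≤ inc ⁻¹ᵁ ((K (n + 1)).subschemeι ⁻¹ᵁ UU) := by
      rw [← Scheme.Hom.comp_preimage, hincι]
    have h1 : (θ n).app UU (Formal2Sec7.sm 𝔞 (quotPowTrans A (J) A n) w) =
        inc.appLE _ _ he ((θ (n + 1)).app UU w) :=
      (congrArg (fun φ => φ.app UU w) hnat).trans (quotMap_app _ UU _ he)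
    show _ = (k n).appLE _ ⊤ (hke n) _
    rw [h1, Scheme.Hom.appTop, Scheme.Hom.app_eq_appLE]
    refine (appLE_comp_apply _ _ _ _ _ _ _ _).trans ?_
    refine Eq.trans ?_ (appLE_comp_apply _ _ _ _ _ _ _ _).symm
    refine appLE_congr_apply ?_ _ _ _ _ _
    rw [← cancel_mono (K (n + 1)).subschemeι, Category.assoc, Category.assoc, hkι, hincι, hkι,
      ← Category.assoc]
    congr 1
    exact Scheme.IdealSheafData.inclusion_subschemeι _
  refine ⟨fun x hx => ?_, fun e he => ?_⟩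
  · obtain ⟨s, rfl⟩ := hF.2 x
    have h0 : s = 0 := inj s fun n => (hE n).1 ((hEF n s).trans ((hx n).trans
      ((congrArg _ (map_zero ((θ n).app UU).hom)).trans (map_zero _)).symm))
    rw [h0]
    exact (congrArg _ (map_zero (θ₀.app UU).hom)).trans (map_zero _)
  · choose w hw using fun n => (hE n).2 (e n)
    obtain ⟨s, hs⟩ := surj w fun n => (hE n).1 (by rw [← hEtr, hw (n + 1), he n, hw n])
    exact ⟨F s, fun n => by rw [← hEF, hs, hw]⟩

/-- Formal functions for `O`. -/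
theorem bij_structureModule [IsAdicComplete J A] (hg : GrFlat J) (h : HVan 𝔞 2 (A ⧸ J)) :
    Bij J (Coh.structureModule (LocCoh.puncturedOpen A 𝔞 : Scheme.{u})) 0 := by
  let e : rT 𝔞 A ≅ Coh.structureModule (LocCoh.puncturedOpen A 𝔞 : Scheme.{u}) :=
    (rW 𝔞).mapIso tildeSelf ≪≫ Scheme.Modules.restrictUnitIso _
  refine bij_of_iso e ?_
  obtain ⟨inj, surj⟩ := bijective_sections hg h
  obtain ⟨σ, hσ⟩ := exists_sec_equiv 𝔞
  let I := J
  letI := Algz7.specOverSelf A
  have hq : ∀ n, IsQuot (I ^ (n + 1)) (rTmap 𝔞 (quotPowπ A I A n)) := fun n =>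
    isQuot_restrict _ rfl (Algz7.isQuot_tilde_map
      (ModuleCat.ofHom (R := CommRingCat.of A) (quotPowπ A I A n)) (Submodule.mkQ_surjective _) (Submodule.ker_mkQ _))
  choose ε hε using fun n => (hq n).exists_iso (IsQuot.modPowπ I (n + 1) (rT 𝔞 A))
  have htr : ∀ n, rTmap 𝔞 (quotPowTrans A I A n) ≫ (ε n).hom = (ε (n + 1)).hom ≫ Formal.modPowTrans I (n + 1) _ := by
    intro n
    haveI := (hq (n + 1)).epi
    rw [← cancel_epi (rTmap 𝔞 (quotPowπ A I A (n + 1))), ← Category.assoc, ← Category.assoc, hε (n + 1),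
      Formal.modPowπ_trans, ← hε n]
    congr 1
    refine ((rW 𝔞).map_comp _ _).symm.trans (congrArg (rW 𝔞).map ?_)
    refine (tilde.map_comp _ _).symm.trans (congrArg _ (ModuleCat.hom_ext (LinearMap.ext fun a => rfl)))
  have hstep : ∀ n (y : Coh.HH (LocCoh.puncturedOpen A 𝔞 : Scheme.{u}) (rT 𝔞 (quotPow A I A n)) 0),
      hhMap A (ε n).inv 0 (hhMap A (ε n).hom 0 y) = y := fun n y => by
    rw [FormalFun.hhMap_comp, Iso.hom_inv_id, FormalFun.hhMap_id]
  refine ⟨fun x hx => (σ A).injective ?_, fun z hz => ?_⟩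
  · rw [map_zero]
    refine inj _ fun n => ?_
    rw [← hσ, ← hstep n (hhMap A _ 0 x), FormalFun.hhMap_comp (rTmap 𝔞 (quotPowπ A I A n)) (ε n).hom, hε n, hx n,
      map_zero, map_zero]
  · obtain ⟨s, hs⟩ := surj (fun n => σ _ (hhMap A (ε n).inv 0 (z n))) fun n => by
      rw [← hσ, ← hz n, FormalFun.hhMap_comp, FormalFun.hhMap_comp]
      congr 3
      rw [Iso.eq_comp_inv, Category.assoc, htr n, Iso.inv_hom_id_assoc]
    refine ⟨(σ A).symm s, fun n => ?_⟩
    have h1 : hhMap A (rTmap 𝔞 (quotPowπ A I A n)) 0 ((σ A).symm s) = hhMap A (ε n).inv 0 (z n) :=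
      (σ _).injective (by rw [hσ, AddEquiv.apply_symm_apply, hs n])
    rw [← hε n, ← FormalFun.hhMap_comp, h1, FormalFun.hhMap_comp, Iso.inv_hom_id, FormalFun.hhMap_id]

end GrothLib.NFlat7
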