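import Groth.Agent.Lib.IdealModSec.Basic
import Groth.Agent.Lib.Euler.Divisor
import Groth.Agent.Lib.PunctSec7.Main

/-!
# The structure sheaf of a closed subscheme on an open
-/

set_option autoImplicit false
set_option linter.style.haveILetI false

universe u

open CategoryTheory CategoryTheory.Limits AlgebraicGeometry

noncomputable section

namespace GrothLib.NFlat7

variable {X : Scheme.{u}} (U : X.Opens) (K : X.IdealSheafData)

theorem subschemeι_app_eq_zero_iff (W : (U : Scheme.{u}).Opens) (s : Γ(X, U.ι ''ᵁ W)) :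
    K.subschemeι.app (U.ι ''ᵁ W) s = 0 ↔ (K.comap U.ι).subschemeι.app W ((U.ι.appIso W).hom s) = 0 := by
  let K' := K.comap U.ι
  let k : K'.subscheme ⟶ K.subscheme := (K.comapIso U.ι).hom ≫ pullback.snd U.ι K.subschemeι
  haveI : IsOpenImmersion k := inferInstance
  have hk : k ≫ K.subschemeι = K'.subschemeι ≫ U.ι := by
    rw [Category.assoc, ← pullback.condition, ← Category.assoc]
    congr 1
    exact K.comapIso_hom_fst U.ι
  let O := K.subschemeι ⁻¹ᵁ (U.ι ''ᵁ W)
  have hr : O ≤ k.opensRange := fun z hz => by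
    obtain ⟨w, hw, hwz⟩ := hz
    obtain ⟨z', -, hz'⟩ := Scheme.Pullback.exists_preimage_pullback (f := U.ι) (g := K.subschemeι) w z hwz
    obtain ⟨w', rfl⟩ := (K.comapIso U.ι).hom.surjective z'
    exact ⟨w', hz'⟩
  have hpre : k ⁻¹ᵁ O = K'.subschemeι ⁻¹ᵁ W := by
    show k ⁻¹ᵁ (K.subschemeι ⁻¹ᵁ (U.ι ''ᵁ W)) = _
    rw [← Scheme.Hom.comp_preimage, hk, Scheme.Hom.comp_preimage, Scheme.Hom.preimage_image_eq]
  have hb : Function.Bijective (k.appLE O (K'.subschemeι ⁻¹ᵁ W) hpre.ge) := by
    haveI := k.isIso_app O hr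
    haveI : IsIso (homOfLE hpre.ge) := ⟨⟨homOfLE hpre.le, Subsingleton.elim _ _, Subsingleton.elim _ _⟩⟩
    haveI : IsIso (k.appLE O (K'.subschemeι ⁻¹ᵁ W) hpre.ge) := by rw [Scheme.Hom.appLE]; infer_instance
    exact ConcreteCategory.bijective_of_isIso _
  have hfac : k.appLE O (K'.subschemeι ⁻¹ᵁ W) hpre.ge (K.subschemeι.app (U.ι ''ᵁ W) s) =
      K'.subschemeι.app W ((U.ι.appIso W).hom s) := by
    rw [Scheme.Hom.app_eq_appLE, Scheme.Hom.app_eq_appLE, Scheme.Hom.appIso_hom']
    refine (PunctSec7.appLE_comp_apply _ _ _ _ _ _ _ _).trans ?_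
    refine Eq.trans ?_ (PunctSec7.appLE_comp_apply _ _ _ _ _ _ _ _).symm
    exact PunctSec7.appLE_congr_apply hk _ _ _ _ _
  rw [← hfac]
  exact ⟨fun h => by rw [h, map_zero], fun h => hb.1 (h.trans (map_zero _).symm)⟩

/-- Restricting a quotient of `O` to an open gives the quotient by the restricted ideal. -/
theorem exists_quotMod_restrict : ∃ β : (Scheme.Modules.restrictFunctor U.ι).obj (ClSub.quotMod K) ≅ ClSub.quotMod (K.comap U.ι),
    (Scheme.Modules.restrictFunctor U.ι).map (ClSub.toSubscheme K) ≫ β.hom =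
      (Scheme.Modules.restrictUnitIso U.ι).hom ≫ ClSub.toSubscheme (K.comap U.ι) := by
  let a := (Scheme.Modules.restrictFunctor U.ι).map (ClSub.toSubscheme K)
  let b := (Scheme.Modules.restrictUnitIso U.ι).hom ≫ ClSub.toSubscheme (K.comap U.ι)
  haveI : Epi a := by
    haveI := Euler.epi_toSubscheme K
    haveI : (Scheme.Modules.restrictFunctor U.ι).PreservesEpimorphisms :=
      Functor.preservesEpimorphisms_of_adjunction (Scheme.Modules.restrictAdjunction U.ι)
    exact Functor.PreservesEpimorphisms.preserves _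
  haveI : Epi b := by
    haveI := Euler.epi_toSubscheme (K.comap U.ι)
    exact epi_comp _ _
  have iffW : ∀ (W : (U : Scheme.{u}).Opens) (s : Γ((Scheme.Modules.restrictFunctor U.ι).obj (Coh.structureModule X), W)),
      a.app W s = 0 ↔ b.app W s = 0 := fun W s => subschemeι_app_eq_zero_iff U K W s
  have h1 : kernel.ι a ≫ b = 0 := by
    refine Scheme.Modules.hom_ext _ _ fun W => ?_
    refine ConcreteCategory.hom_ext _ _ fun s => ?_
    show b.app W ((kernel.ι a).app W s) = 0
    refine (iffW W _).1 ?_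
    show (kernel.ι a ≫ a).app W s = 0
    rw [kernel.condition]
    rfl
  have h2 : kernel.ι b ≫ a = 0 := by
    refine Scheme.Modules.hom_ext _ _ fun W => ?_
    refine ConcreteCategory.hom_ext _ _ fun s => ?_
    show a.app W ((kernel.ι b).app W s) = 0
    refine (iffW W _).2 ?_
    show (kernel.ι b ≫ b).app W s = 0
    rw [kernel.condition]
    rfl
  refine ⟨⟨Abelian.epiDesc a b h1, Abelian.epiDesc b a h2, ?_, ?_⟩, Abelian.comp_epiDesc _ _ _⟩
  · rw [← cancel_epi a, ← Category.assoc, Abelian.comp_epiDesc, Abelian.comp_epiDesc, Category.comp_id]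
  · rw [← cancel_epi b, ← Category.assoc, Abelian.comp_epiDesc, Abelian.comp_epiDesc, Category.comp_id]

end GrothLib.NFlat7
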