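import Groth.Agent.Lib.NFlat7.Main
import Groth.Agent.Lib.NFlat7.QuotRestrict
import Groth.Agent.Lib.PunctSec7.Higher
import Groth.Agent.Lib.QCoh.Abelian

/-!
# The first cohomology of the steps between thickenings on a punctured spectrum
-/

set_option autoImplicit false
set_option linter.style.haveILetI false

universe u

open CategoryTheory CategoryTheory.Limits AlgebraicGeometry Formal2

noncomputable section

namespace GrothLib.NFlat7

open GrothLib.PunctSec7

variable {A : Type u} [CommRing A] [IsNoetherianRing A] (𝔞 : Ideal A) {J : Ideal A}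

set_option quotPrecheck false
local notation "UU" => LocCoh.puncturedOpen A 𝔞

theorem subsingleton_step (hg : GrFlat J) (h : HVan 𝔞 3 (A ⧸ J)) (m : ℕ) :
    Subsingleton (Coh.HH (UU : Scheme.{u})
      (kernel (Lef.quotMap (Lef.pow_succ_le ((KI J).comap (UU).ι) m))) 1) := by
  let KU := (KI J).comap (UU).ι
  let ψ := (rW 𝔞).map θ₀ ≫ (Scheme.Modules.restrictUnitIso (UU).ι).hom
  have hχ : ∀ n, ∃ χ : rT 𝔞 (quotPow A J A n) ≅ ClSub.quotMod (KU ^ (n + 1)),
      rTmap 𝔞 (quotPowπ A J A n) ≫ χ.hom = ψ ≫ ClSub.toSubscheme (KU ^ (n + 1)) := by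
    intro n
    obtain ⟨θ, hθb, hθ⟩ := exists_θI J n
    haveI : IsIso θ := by
      rw [Scheme.Modules.Hom.isIso_iff_isIso_app]
      exact fun U => (ConcreteCategory.isIso_iff_bijective _).2 (hθb U)
    have hr := exists_quotMod_restrict (UU : (Spec (CommRingCat.of A)).Opens) ((KI J) ^ (n + 1))
    rw [FSchSys.comap_pow (KI J) (UU).ι (n + 1)] at hr
    obtain ⟨β, hβ⟩ := hr
    refine ⟨(rW 𝔞).mapIso (asIso θ) ≪≫ β, ?_⟩
    have h1 : rTmap 𝔞 (quotPowπ A J A n) ≫ (rW 𝔞).map θ =
        (rW 𝔞).map θ₀ ≫ (rW 𝔞).map (ClSub.toSubscheme ((KI J) ^ (n + 1))) := by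
      rw [← (rW 𝔞).map_comp θ₀, ← hθ, Functor.map_comp]
    rw [Iso.trans_hom, Functor.mapIso_hom, asIso_hom, ← Category.assoc, h1, Category.assoc, hβ, ← Category.assoc]
  choose χ hχ using hχ
  have htr : rTmap 𝔞 (quotPowTrans A J A m) ≫ (χ m).hom = (χ (m + 1)).hom ≫ Lef.quotMap (Lef.pow_succ_le KU m) := by
    haveI : Epi (rTmap 𝔞 (quotPowπ A J A (m + 1))) := by
      haveI : Epi (ModuleCat.ofHom (R := CommRingCat.of A) (quotPowπ A J A (m + 1))) :=
        (ModuleCat.epi_iff_surjective _).2 (Submodule.mkQ_surjective _)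
      haveI : Epi (tilde.map (ModuleCat.ofHom (R := CommRingCat.of A) (quotPowπ A J A (m + 1)))) :=
        inferInstanceAs (Epi ((tilde.functor (CommRingCat.of A)).map
          (ModuleCat.ofHom (R := CommRingCat.of A) (quotPowπ A J A (m + 1)))))
      haveI : (rW 𝔞).PreservesEpimorphisms :=
        Functor.preservesEpimorphisms_of_adjunction (Scheme.Modules.restrictAdjunction (UU).ι)
      exact Functor.PreservesEpimorphisms.preserves _
    have h1 : rTmap 𝔞 (quotPowπ A J A (m + 1)) ≫ rTmap 𝔞 (quotPowTrans A J A m) = rTmap 𝔞 (quotPowπ A J A m) := by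
      refine ((rW 𝔞).map_comp _ _).symm.trans (congrArg (rW 𝔞).map ?_)
      exact (tilde.map_comp _ _).symm.trans (congrArg _ (ModuleCat.hom_ext (LinearMap.ext fun a => rfl)))
    refine (cancel_epi (rTmap 𝔞 (quotPowπ A J A (m + 1)))).1 ?_
    refine (Category.assoc _ _ _).symm.trans ?_
    refine Eq.trans ?_ (Category.assoc _ _ _)
    refine ((congrArg (· ≫ (χ m).hom) h1).trans (hχ m)).trans ?_
    refine Eq.trans ?_ (congrArg (· ≫ Lef.quotMap (Lef.pow_succ_le KU m)) (hχ (m + 1))).symm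
    refine Eq.trans ?_ (Category.assoc _ _ _).symm
    exact congrArg (ψ ≫ ·) (LefEt7.toSubscheme_quotMap _).symm
  -- the kernel as an associated sheaf
  let f : ModuleCat.of (CommRingCat.of A) (quotPow A J A (m + 1)) ⟶ ModuleCat.of (CommRingCat.of A) (quotPow A J A m) :=
    ModuleCat.ofHom (R := CommRingCat.of A) (quotPowTrans A J A m)
  let K := LinearMap.ker (quotPowTrans A J A m)
  let F := tilde.functor (CommRingCat.of A) ⋙ rW 𝔞
  haveI : PreservesLimitsOfSize.{0, 0} (rW 𝔞) := inferInstance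
  haveI : F.PreservesZeroMorphisms := inferInstance
  let e1 : kernel (Lef.quotMap (Lef.pow_succ_le KU m)) ≅ kernel (F.map f) :=
    (kernel.mapIso (F.map f) (Lef.quotMap (Lef.pow_succ_le KU m)) (χ (m + 1)) (χ m) htr).symm
  let e2 : kernel (F.map f) ≅ rT 𝔞 K :=
    (PreservesKernel.iso F f).symm ≪≫ F.mapIso (ModuleCat.kernelIsoKer f)
  have hq : ∀ n, HVan 𝔞 3 (quotPow A J A n) := fun n => by
    show HVan 𝔞 3 (A ⧸ (J ^ (n + 1) • (⊤ : Submodule A A)))
    rw [smul_eq_mul, Ideal.mul_top]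
    exact HVan.quot hg h (n + 1)
  have hK : Subsingleton (LocCoh.H 𝔞 2 K) := by
    have hs : Function.Surjective (quotPowTrans A J A m) := fun y => by
      obtain ⟨a, rfl⟩ := Submodule.mkQ_surjective _ y
      exact ⟨Submodule.Quotient.mk a, rfl⟩
    let S : ShortComplex (ModuleCat.{u} A) :=
      ShortComplex.mk (ModuleCat.ofHom K.subtype) (ModuleCat.ofHom (quotPowTrans A J A m))
        (ModuleCat.hom_ext (LinearMap.ext fun x => x.2))
    have hS : S.ShortExact :=
      { exact := (ShortComplex.moduleCat_exact_iff _).2 fun x hx => ⟨⟨x, hx⟩, rfl⟩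
        mono_f := (ModuleCat.mono_iff_injective _).2 Subtype.val_injective
        epi_g := (ModuleCat.epi_iff_surjective _).2 hs }
    exact LC.subsingleton₁ 𝔞 hS 1 (hq (m + 1) 2 (by norm_num)) (hq m 1 (by norm_num))
  refine subsingleton_of_forall_eq 0 fun x => ?_
  let e := e1 ≪≫ e2
  have hx : ∀ y : Coh.HH (UU : Scheme.{u}) (rT 𝔞 K) 1, y = 0 := fun y => by
    have := hh_killed 𝔞 K 0 (1 : A) (fun z => Subsingleton.elim _ _) y
    rwa [one_smul] at this
  have h1 := congrArg (Cohom.hhMap A e.inv 1) (hx (Cohom.hhMap A e.hom 1 x))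
  rwa [FormalFun.hhMap_comp, Iso.hom_inv_id, FormalFun.hhMap_id, map_zero] at h1

end GrothLib.NFlat7
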